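import Groth.Agent.Sga3.H793.UnipPart

/-!
# The unipotent part: unipotence, base change, universal property
-/

set_option autoImplicit false

universe u v w

open TensorProduct HopfRep

namespace Groth.Agent.Sga3.H793.UnipPart2

open Groth.Agent.Sga3A.ComodBasic Groth.Agent.Sga3A.ComodUnip Groth.Agent.Sga3.H793.UnipPart

section Compare

variable {k : Type u} {A : Type v} [Field k] [CommRing A] [Bialgebra k A]
variable {V : Type w} [AddCommGroup V] [Module k V] [Comod k A V]

/-- The two filtrations in the library agree. -/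
theorem mem_soc_iff (n : ℕ) (v : V) :
    v ∈ soc k A V n ↔ v ∈ Groth.Agent.Books.ComodSocle.soc k A V n := by
  induction n generalizing v with
  | zero => exact Iff.rfl
  | succ n ih =>
    rw [mem_soc_succ, Groth.Agent.Books.ComodSocle.mem_soc_succ]
    constructor
    · intro h f hf
      have := h f
      rw [hf, zero_smul, sub_zero, ih] at this
      exact this
    · intro h g
      have h1 := h (g - g 1 • CoalgebraStruct.counit (R := k)) (by simp)
      rw [← ih] at h1
      have h2 : Groth.Agent.Books.ComodDual.cact (V := V)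
          (g - g 1 • CoalgebraStruct.counit (R := k) (A := A)) v = T V g v - g 1 • v := by
        rw [show g - g 1 • CoalgebraStruct.counit (R := k) (A := A) =
            g + (-(g 1)) • CoalgebraStruct.counit (R := k) (A := A) by
              ext a; simp [sub_eq_add_neg], Groth.Agent.Books.ComodDual.cact_apply,
          Groth.Agent.Books.ComodDual.contr_add, Groth.Agent.Books.ComodDual.contr_smul,
          ← Groth.Agent.Books.ComodDual.cact_apply, ← Groth.Agent.Books.ComodDual.cact_apply,
          Groth.Agent.Books.ComodDual.cact_counit, neg_smul, ← sub_eq_add_neg]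
        rfl
      rw [← h2]
      exact h1

/-- A bialgebra whose regular comodule is exhausted by the filtration is unipotent. -/
theorem isUnipotent_iff_soc : IsUnipotent k A ↔ ∀ a : A, ∃ n, a ∈ soc k A A n := by
  rw [Groth.Agent.Books.ComodSocle.isUnipotent_iff]
  simp only [mem_soc_iff]

variable {B : Type w} [CommRing B] [Bialgebra k B]

/-- Coalgebra maps which are injective reflect the filtration; all bialgebra maps respect it. -/
theorem map_mem_soc (φ : B →ₐc[k] A) (n : ℕ) (b : B) (hb : b ∈ soc k B B n) :
    φ b ∈ soc k A A n := by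
  induction n generalizing b with
  | zero => rw [mem_soc_zero] at hb ⊢; rw [hb, map_zero]
  | succ n ih =>
    rw [mem_soc_succ] at hb ⊢
    intro g
    have h1 := ih _ (hb (g ∘ₗ (φ : B →ₗ[k] A)))
    have h2 : φ (T B (g ∘ₗ (φ : B →ₗ[k] A)) b) = T A g (φ b) := by
      rw [T_apply, T_apply]
      change _ = TensorProduct.rid k A (LinearMap.lTensor A g (CoalgebraStruct.comul (R := k) (φ b)))
      rw [← CoalgHomClass.map_comp_comul_apply]
      change φ (TensorProduct.rid k B (LinearMap.lTensor B _ (CoalgebraStruct.comul (R := k) b))) = _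
      generalize CoalgebraStruct.comul (R := k) b = z
      induction z with
      | zero => simp
      | add x y hx hy => simp only [map_add, hx, hy]
      | tmul x y => simp
    have h3 : (g ∘ₗ (φ : B →ₗ[k] A)) 1 = g 1 := by
      change g (φ 1) = g 1
      rw [map_one]
    rw [map_sub, map_smul, h2, h3] at h1
    exact h1

theorem mem_soc_of_map (φ : B →ₐc[k] A) (hφ : Function.Injective φ) (n : ℕ) (b : B)
    (hb : φ b ∈ soc k A A n) : b ∈ soc k B B n := by
  induction n generalizing b with
  | zero => rw [mem_soc_zero] at hb ⊢; exact hφ (by rw [hb, map_zero])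
  | succ n ih =>
    rw [mem_soc_succ] at hb ⊢
    intro f
    -- extend `f` along `φ`
    obtain ⟨g, hg⟩ := LinearMap.exists_leftInverse_of_injective (φ : B →ₗ[k] A)
      (LinearMap.ker_eq_bot.mpr hφ)
    have hgf : (f ∘ₗ g) ∘ₗ (φ : B →ₗ[k] A) = f := by
      rw [LinearMap.comp_assoc, hg, LinearMap.comp_id]
    apply ih
    have h1 := hb (f ∘ₗ g)
    have h2 : φ (T B f b) = T A (f ∘ₗ g) (φ b) := by
      rw [T_apply, T_apply]
      change _ = TensorProduct.rid k A (LinearMap.lTensor A _ (CoalgebraStruct.comul (R := k) (φ b)))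
      rw [← CoalgHomClass.map_comp_comul_apply]
      change _ = TensorProduct.rid k A (LinearMap.lTensor A (f ∘ₗ g)
        (TensorProduct.map (φ : B →ₗ[k] A) (φ : B →ₗ[k] A) (CoalgebraStruct.comul (R := k) b)))
      change φ (TensorProduct.rid k B (LinearMap.lTensor B _ (CoalgebraStruct.comul (R := k) b))) = _
      generalize CoalgebraStruct.comul (R := k) b = z
      have hgf' : ∀ y, f (g (φ y)) = f y := fun y => LinearMap.congr_fun hgf y
      induction z with
      | zero => simp
      | add x y hx hy => simp only [map_add, hx, hy]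
      | tmul x y => simp [hgf']
    have h3 : (f ∘ₗ g) 1 = f 1 := by
      have := LinearMap.congr_fun hgf 1
      change f (g (φ 1)) = f 1 at this
      rwa [map_one] at this
    rw [map_sub, map_smul, h2, ← h3]
    exact h1

end Compare

section Sub

variable {k : Type u} {A : Type u} [Field k] [CommRing A] [HopfAlgebra k A] [Coalgebra.IsCocomm k A]

/-- The unipotent part is a unipotent Hopf algebra. -/
theorem isUnipotent_unipSub :
    letI := Groth.Agent.Sga3C.SubHopf.hopfB (isHopfSubalgebra_unipSub (k := k) (A := A))
    IsUnipotent k (unipSub k A) := by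
  let _ := Groth.Agent.Sga3C.SubHopf.hopfB (isHopfSubalgebra_unipSub (k := k) (A := A))
  rw [isUnipotent_iff_soc]
  rintro ⟨b, n, hn⟩
  refine ⟨n, mem_soc_of_map
    (Groth.Agent.Sga3C.SubHopf.valB (isHopfSubalgebra_unipSub (k := k) (A := A)))
    Subtype.val_injective n _ hn⟩

end Sub

section BC

variable {k : Type u} {A : Type v} [Field k] [CommRing A] [Bialgebra k A]
variable (K : Type w) [Field K] [Algebra k K]

/-- the `K`-linear extension of a functional -/
noncomputable def extF (g : A →ₗ[k] k) : (K ⊗[k] A) →ₗ[K] K :=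
  TensorProduct.AlgebraTensorModule.lift
    { toFun := fun c => { toFun := fun a => g a • c
                          map_add' := fun x y => by rw [map_add, add_smul]
                          map_smul' := fun r x => by rw [map_smul, smul_eq_mul, mul_smul]; rfl }
      map_add' := fun c d => by ext a; simp
      map_smul' := fun r c => by ext a; simp [Algebra.smul_def]; ring }

@[simp] theorem extF_tmul (g : A →ₗ[k] k) (c : K) (a : A) : extF K g (c ⊗ₜ a) = g a • c := rfl

theorem T_extF_tmul (g : A →ₗ[k] k) (c : K) (a : A) :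
    T (K ⊗[k] A) (extF K g) (c ⊗ₜ[k] a) = c ⊗ₜ[k] (T A g a) := by
  have h1 : c ⊗ₜ[k] a = c • ((1 : K) ⊗ₜ[k] a) := by
    rw [TensorProduct.smul_tmul', smul_eq_mul, mul_one]
  have h2 : c ⊗ₜ[k] (T A g a) = c • ((1 : K) ⊗ₜ[k] (T A g a)) := by
    rw [TensorProduct.smul_tmul', smul_eq_mul, mul_one]
  rw [h1, h2, map_smul]
  congr 1
  rw [T_apply, T_apply]
  change TensorProduct.rid K (K ⊗[k] A) (LinearMap.lTensor (K ⊗[k] A) (extF K g)
      (TensorProduct.AlgebraTensorModule.tensorTensorTensorComm k K k K K K A A
        (((1 : K) ⊗ₜ[K] (1 : K)) ⊗ₜ[k] (CoalgebraStruct.comul (R := k) a)))) =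
    (1 : K) ⊗ₜ[k] (TensorProduct.rid k A (LinearMap.lTensor A g (CoalgebraStruct.comul (R := k) a)))
  generalize CoalgebraStruct.comul (R := k) a = z
  induction z with
  | zero => simp
  | add x y hx hy => simp only [map_add, TensorProduct.tmul_add, hx, hy]
  | tmul x y =>
    simp only [TensorProduct.AlgebraTensorModule.tensorTensorTensorComm_tmul,
      LinearMap.lTensor_tmul, TensorProduct.rid_tmul, extF_tmul]
    rw [smul_assoc, one_smul, TensorProduct.tmul_smul]

theorem extF_one (g : A →ₗ[k] k) : extF K g 1 = algebraMap k K (g 1) := by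
  rw [Algebra.TensorProduct.one_def, extF_tmul, Algebra.smul_def, mul_one]

/-- The filtration of `K ⊗ A` is contained in the base change of the filtration of `A`. -/
theorem repr_mem_soc {ι : Type*} [DecidableEq ι] (e : Module.Basis ι k K) (n : ℕ) (x : K ⊗[k] A)
    (hx : x ∈ soc K (K ⊗[k] A) (K ⊗[k] A) n) (i : ι) :
    TensorProduct.equivFinsuppOfBasisLeft (N := A) e x i ∈ soc k A A n := by
  classical
  induction n generalizing x with
  | zero => rw [mem_soc_zero] at hx ⊢; rw [hx, map_zero]; rfl
  | succ n ih =>
    rw [mem_soc_succ] at hx ⊢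
    intro g
    have h1 := ih _ (hx (extF K g))
    have key : ∀ x : K ⊗[k] A, TensorProduct.equivFinsuppOfBasisLeft (N := A) e
        (T (K ⊗[k] A) (extF K g) x) i = T A g (TensorProduct.equivFinsuppOfBasisLeft (N := A) e x i) := by
      intro x
      induction x with
      | zero => simp
      | add x y hx hy => simp only [map_add, Finsupp.add_apply, hx, hy]
      | tmul c a =>
        rw [T_extF_tmul]
        simp [TensorProduct.equivFinsuppOfBasisLeft_apply_tmul]
    rw [map_sub, Finsupp.sub_apply, key, extF_one, algebraMap_smul, map_smul,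
      Finsupp.smul_apply] at h1
    exact h1

/-- The filtration of `K ⊗ A` is contained in the span of that of `A`. -/
theorem soc_baseChange_le (n : ℕ) (x : K ⊗[k] A) (hx : x ∈ soc K (K ⊗[k] A) (K ⊗[k] A) n) :
    x ∈ Submodule.span K ((fun a : A => (1 : K) ⊗ₜ[k] a) '' (soc k A A n : Set A)) := by
  classical
  let e := Module.Basis.ofVectorSpace k K
  have h1 := repr_mem_soc K e n x hx
  rw [← (TensorProduct.equivFinsuppOfBasisLeft (N := A) e).symm_apply_apply x,
    TensorProduct.equivFinsuppOfBasisLeft_symm_apply]
  refine Submodule.sum_mem _ fun i _ => ?_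
  have : e i ⊗ₜ[k] (TensorProduct.equivFinsuppOfBasisLeft (N := A) e x i) =
      e i • ((1 : K) ⊗ₜ[k] (TensorProduct.equivFinsuppOfBasisLeft (N := A) e x i)) := by
    rw [TensorProduct.smul_tmul', smul_eq_mul, mul_one]
  dsimp only
  rw [this]
  exact Submodule.smul_mem _ _ (Submodule.subset_span ⟨_, h1 i, rfl⟩)

end BC

end Groth.Agent.Sga3.H793.UnipPart2
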