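import Groth.Agent.Sga3A.ComodUnip2
import Groth.Agent.Sga3C.NormalHopfD
import Groth.Agent.Sga3C.SubHopf
import Groth.Agent.Books.ComodSocle

/-!
# The unipotent part of a commutative and cocommutative Hopf algebra

`unipSub k A`: the union of the filtration of the regular comodule by iterated fixed vectors; for a
commutative, cocommutative Hopf algebra `A` over a field it is a sub-Hopf-algebra, unipotent as a
Hopf algebra.
-/

set_option autoImplicit false

universe u v w

open TensorProduct HopfRep

namespace Groth.Agent.Sga3.H793.UnipPart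

open Groth.Agent.Sga3A.ComodBasic Groth.Agent.Sga3A.ComodUnip

section Mul

variable {k : Type u} {A : Type v} [Field k] [CommRing A] [Bialgebra k A]

/-- `a` lies in the `n+1`-st step iff `Δ a - a ⊗ 1` lies in (`n`-th step) `⊗ A`. -/
theorem mem_soc_succ_iff (n : ℕ) (a : A) : a ∈ soc k A A (n + 1) ↔
    CoalgebraStruct.comul (R := k) a - a ⊗ₜ[k] (1 : A) ∈
      LinearMap.range ((soc k A A n).subtype.rTensor A) := by
  rw [mem_range_rTensor_iff, mem_soc_succ]
  refine forall_congr' fun g => ?_
  rw [map_sub, map_sub, T_apply]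
  have : TensorProduct.rid k A (LinearMap.lTensor A g (a ⊗ₜ[k] (1 : A))) = g 1 • a := by simp
  rw [this]
  rfl

theorem mul_mem_range {P Q W : Submodule k A} (h : ∀ p ∈ P, ∀ q ∈ Q, p * q ∈ W) {x y : A ⊗[k] A}
    (hx : x ∈ LinearMap.range (P.subtype.rTensor A)) (hy : y ∈ LinearMap.range (Q.subtype.rTensor A)) :
    x * y ∈ LinearMap.range (W.subtype.rTensor A) := by
  obtain ⟨s, rfl⟩ := hx
  obtain ⟨t, rfl⟩ := hy
  induction s with
  | zero => rw [map_zero, zero_mul]; exact zero_mem _
  | add a b ha hb => rw [map_add, add_mul]; exact add_mem ha hb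
  | tmul p a =>
    induction t with
    | zero => rw [map_zero, mul_zero]; exact zero_mem _
    | add a b ha hb => rw [map_add, mul_add]; exact add_mem ha hb
    | tmul q b =>
      refine ⟨⟨(p : A) * (q : A), h _ p.2 _ q.2⟩ ⊗ₜ (a * b), ?_⟩
      simp [LinearMap.rTensor_tmul, Algebra.TensorProduct.tmul_mul_tmul]

theorem tmul_mem_range {P : Submodule k A} {a : A} (ha : a ∈ P) (b : A) :
    a ⊗ₜ[k] b ∈ LinearMap.range (P.subtype.rTensor A) :=
  ⟨⟨a, ha⟩ ⊗ₜ b, by rw [LinearMap.rTensor_tmul]; rfl⟩

theorem mul_mem_soc_aux (N : ℕ) : ∀ (m n : ℕ), m + n = N → ∀ a ∈ soc k A A m, ∀ b ∈ soc k A A n,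
    a * b ∈ soc k A A (m + n) := by
  induction N using Nat.strong_induction_on with
  | _ N ih =>
    intro m n hmn a ha b hb
    match m, n with
    | 0, n => rw [mem_soc_zero] at ha; rw [ha, zero_mul]; exact zero_mem _
    | m + 1, 0 => rw [mem_soc_zero] at hb; rw [hb, mul_zero]; exact zero_mem _
    | m + 1, n + 1 =>
      have hx := (mem_soc_succ_iff m a).mp ha
      have hy := (mem_soc_succ_iff n b).mp hb
      rw [show m + 1 + (n + 1) = (m + n + 1) + 1 by ring, mem_soc_succ_iff]
      set x := CoalgebraStruct.comul (R := k) a - a ⊗ₜ[k] (1 : A) with hxd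
      set y := CoalgebraStruct.comul (R := k) b - b ⊗ₜ[k] (1 : A) with hyd
      have e : CoalgebraStruct.comul (R := k) (a * b) - (a * b) ⊗ₜ[k] (1 : A) =
          (a ⊗ₜ[k] (1 : A)) * y + x * (b ⊗ₜ[k] (1 : A)) + x * y := by
        have h1 : CoalgebraStruct.comul (R := k) (a * b) =
          CoalgebraStruct.comul (R := k) a * CoalgebraStruct.comul (R := k) b :=
            Bialgebra.comul_mul a b
        have h2 : (a * b) ⊗ₜ[k] (1 : A) = (a ⊗ₜ[k] (1 : A)) * (b ⊗ₜ[k] (1 : A)) := by
          rw [Algebra.TensorProduct.tmul_mul_tmul, one_mul]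
        rw [h1, h2, hxd, hyd]
        ring
      rw [e]
      refine add_mem (add_mem ?_ ?_) ?_
      · refine mul_mem_range (P := soc k A A (m + 1)) (Q := soc k A A n) ?_ (tmul_mem_range ha _) hy
        intro p hp q hq
        have := ih (m + 1 + n) (by omega) (m + 1) n rfl p hp q hq
        rwa [show m + 1 + n = m + n + 1 by ring] at this
      · refine mul_mem_range (P := soc k A A m) (Q := soc k A A (n + 1)) ?_ hx (tmul_mem_range hb _)
        intro p hp q hq
        exact ih (m + (n + 1)) (by omega) m (n + 1) rfl p hp q hq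
      · refine mul_mem_range (P := soc k A A m) (Q := soc k A A n) ?_ hx hy
        intro p hp q hq
        exact soc_le_succ _ (ih (m + n) (by omega) m n rfl p hp q hq)

theorem mul_mem_soc {m n : ℕ} {a b : A} (ha : a ∈ soc k A A m) (hb : b ∈ soc k A A n) :
    a * b ∈ soc k A A (m + n) := mul_mem_soc_aux (m + n) m n rfl a ha b hb

theorem one_mem_soc : (1 : A) ∈ soc k A A 1 := by
  rw [mem_soc_succ_iff]
  rw [Bialgebra.comul_one, Algebra.TensorProduct.one_def, sub_self]
  exact zero_mem _

theorem algebraMap_mem_soc (c : k) : algebraMap k A c ∈ soc k A A 1 := by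
  rw [Algebra.algebraMap_eq_smul_one]
  exact Submodule.smul_mem _ _ one_mem_soc

variable (k A) in
/-- The union of the filtration of the regular comodule by iterated fixed vectors. -/
noncomputable def unipSub : Subalgebra k A where
  carrier := {a | ∃ n, a ∈ soc k A A n}
  mul_mem' := by
    rintro a b ⟨m, hm⟩ ⟨n, hn⟩
    exact ⟨m + n, mul_mem_soc hm hn⟩
  add_mem' := by
    rintro a b ⟨m, hm⟩ ⟨n, hn⟩
    exact ⟨max m n, add_mem (soc_mono (le_max_left _ _) hm) (soc_mono (le_max_right _ _) hn)⟩
  algebraMap_mem' c := ⟨1, algebraMap_mem_soc c⟩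

theorem mem_unipSub {a : A} : a ∈ unipSub k A ↔ ∃ n, a ∈ soc k A A n := Iff.rfl

end Mul

section Hopf

variable {k : Type u} {A : Type u} [Field k] [CommRing A] [HopfAlgebra k A]

theorem T_mem_unipSub (g : A →ₗ[k] k) {a : A} (ha : a ∈ unipSub k A) : T A g a ∈ unipSub k A := by
  obtain ⟨n, hn⟩ := ha
  exact ⟨n, soc_stable n g a hn⟩

theorem antipode_mem_soc [Coalgebra.IsCocomm k A] (n : ℕ) (a : A) (ha : a ∈ soc k A A n) :
    HopfAlgebraStruct.antipode (R := k) (A := A) a ∈ soc k A A n := by
  induction n generalizing a with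
  | zero => rw [mem_soc_zero] at ha ⊢; rw [ha, map_zero]
  | succ n ih =>
    rw [mem_soc_succ] at ha ⊢
    intro g
    let g' : A →ₗ[k] k := g ∘ₗ HopfAlgebraStruct.antipode (R := k) (A := A)
    have h1 := ih _ (ha g')
    have h2 : g' 1 = g 1 := by
      change g (HopfAlgebraStruct.antipode (R := k) (1 : A)) = g 1
      rw [HopfAlgebra.antipode_one]
    have h3 : HopfAlgebraStruct.antipode (R := k) (A := A) (T A g' a) =
        T A g (HopfAlgebraStruct.antipode (R := k) (A := A) a) := by
      rw [T_apply, T_apply]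
      change _ = TensorProduct.rid k A (LinearMap.lTensor A g
        (CoalgebraStruct.comul (R := k) (HopfAlgebraStruct.antipode (R := k) (A := A) a)))
      rw [Groth.Agent.Sga3C.SubHopf.comul_antipode, Coalgebra.comm_comul]
      change _ = _
      have key : ∀ z : A ⊗[k] A, HopfAlgebraStruct.antipode (R := k) (A := A)
          (TensorProduct.rid k A (LinearMap.lTensor A g' z)) =
          TensorProduct.rid k A (LinearMap.lTensor A g
            (TensorProduct.map (HopfAlgebraStruct.antipode (R := k))
              (HopfAlgebraStruct.antipode (R := k)) z)) := by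
        intro z
        induction z with
        | zero => simp
        | add x y hx hy => simp only [map_add, hx, hy]
        | tmul x y => simp [g']
      exact key _
    rw [map_sub, map_smul, h3, h2] at h1
    exact h1

theorem isHopfSubalgebra_unipSub [Coalgebra.IsCocomm k A] :
    SGA3.IsHopfSubalgebra k A (unipSub k A) := by
  refine ⟨fun b hb => ?_, fun b hb => ?_⟩
  · have h1 : ∀ θ : A →ₗ[k] k, TensorProduct.rid k A (θ.lTensor A
        (CoalgebraStruct.comul (R := k) b)) ∈ Subalgebra.toSubmodule (unipSub k A) :=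
      fun θ => T_mem_unipSub θ hb
    have h2 : ∀ θ : A →ₗ[k] k, TensorProduct.lid k A (θ.rTensor A
        (CoalgebraStruct.comul (R := k) b)) ∈ Subalgebra.toSubmodule (unipSub k A) := by
      intro θ
      have := h1 θ
      rw [← Coalgebra.comm_comul] at this
      have key : ∀ z : A ⊗[k] A, TensorProduct.rid k A (θ.lTensor A (TensorProduct.comm k A A z)) =
          TensorProduct.lid k A (θ.rTensor A z) := by
        intro z
        induction z with
        | zero => simp
        | add x y hx hy => simp only [map_add, hx, hy]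
        | tmul x y => simp
      rwa [key] at this
    exact Groth.Agent.Sga3C.NormalHopfD.mem_range_map (k := k)
      (Subalgebra.toSubmodule (unipSub k A)) _
      (Groth.Agent.Sga3C.NormalHopfD.mem_range_rTensor (k := k) _ _ h1)
      (Groth.Agent.Sga3C.NormalHopfD.lTensor_mkQ_eq_zero (k := k) _ _ h2)
  · obtain ⟨n, hn⟩ := hb
    exact ⟨n, antipode_mem_soc n b hn⟩

end Hopf

end Groth.Agent.Sga3.H793.UnipPart
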